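import Cfsg.Agent.Lib.Fusion.TwoRank.Quaternion
import Cfsg.Agent.Lib.Fusion.TwoTypes.DihedralModels
import Cfsg.Agent.Lib.Fusion.TwoTypes.SemiDihedralModels
import Cfsg.Agent.Lib.Fusion.TwoTypes.WreathedModels

/-!
At most two classes of essential subgroups on dihedral, quaternion, semidihedral and wreathed groups.
-/

set_option autoImplicit false

namespace CfsgLib.Fusion.TwoRank

open Cfsg Cfsg.FusionSystem CfsgLib.Fusion CfsgLib.Fusion.TwoTypes

/-- At most two classes, up to conjugacy, of proper self-centralising subgroups with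
non-`2`-group automorphisms. -/
def TwoClasses (M : Type*) [Group M] : Prop :=
  ∃ R : Fin 2 → Subgroup M, ∀ P : Subgroup M, Subgroup.centralizer (P : Set M) ≤ P →
    ¬ IsPGroup 2 (MulAut P) → P ≠ ⊤ → ∃ i, ∃ g : M, (R i).map (MulAut.conj g).toMonoidHom = P

theorem twoClasses_dihedral {n : ℕ} (hn : 2 ≤ n) : TwoClasses (DihedralGroup (2 ^ n)) := by
  refine ⟨![CfsgLib.TwoGroups.Dihedral.lev 1 0, CfsgLib.TwoGroups.Dihedral.lev 1 1],
    fun P hC hA _ => ?_⟩
  obtain ⟨i, rfl⟩ := TwoTypes.Dihedral.cand hn hC hA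
  obtain ⟨c, hc | hc⟩ := CfsgLib.TwoGroups.exists_two_mul i
  · refine ⟨0, DihedralGroup.r (-c), ?_⟩
    show (CfsgLib.TwoGroups.Dihedral.lev 1 0).map _ = _
    rw [CfsgLib.TwoGroups.Dihedral.map_conj_r_lev, hc]
    congr 1
    ring
  · refine ⟨1, DihedralGroup.r (-c), ?_⟩
    show (CfsgLib.TwoGroups.Dihedral.lev 1 1).map _ = _
    rw [CfsgLib.TwoGroups.Dihedral.map_conj_r_lev, hc]
    congr 1
    ring

theorem twoClasses_semiDihedral (m : ℕ) : TwoClasses (CfsgLib.TwoGroups.SemiDihedral m) := by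
  refine ⟨![CfsgLib.TwoGroups.SemiDihedral.four (2 * 0),
    CfsgLib.TwoGroups.SemiDihedral.eight (2 * 0 + 1)], fun P hC hA _ => ?_⟩
  rcases TwoTypes.SD.cand hC hA with ⟨c, rfl⟩ | ⟨c, rfl⟩
  · obtain ⟨g, hg⟩ := CfsgLib.TwoGroups.SemiDihedral.conj_four (0 : ZMod (2 ^ (m + 3))) c
    exact ⟨0, g, hg⟩
  · obtain ⟨g, hg⟩ := CfsgLib.TwoGroups.SemiDihedral.conj_eight (0 : ZMod (2 ^ (m + 3))) c
    exact ⟨1, g, hg⟩

theorem twoClasses_wreath (m : ℕ) : TwoClasses (CfsgLib.TwoGroups.WreathTwo m) := by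
  refine ⟨![CfsgLib.TwoGroups.WreathTwo.base m, CfsgLib.TwoGroups.WreathTwo.lev 1 0],
    fun P hC hA _ => ?_⟩
  rcases CfsgLib.TwoGroups.WreathTwo.selfCentralizing_cases hC hA with rfl | ⟨c, rfl⟩
  · refine ⟨0, 1, ?_⟩
    rw [map_one]
    exact Subgroup.map_id _
  · refine ⟨1, CfsgLib.TwoGroups.WreathTwo.u c 0, ?_⟩
    show (CfsgLib.TwoGroups.WreathTwo.lev 1 0).map _ = _
    rw [CfsgLib.TwoGroups.WreathTwo.conj_lev, zero_add]

theorem twoClasses_quaternion (k : ℕ) : TwoClasses (Quat.Q k) := by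
  refine ⟨![Quat.qlev 0, Quat.qlev 1], fun P hC hA _ => ?_⟩
  obtain ⟨i, rfl⟩ := Quat.cand hC hA
  obtain ⟨g, hg⟩ := Quat.exists_conj i
  have hinv : (Quat.qlev ((i.val % 2 : ℕ) : Quat.Z k)).map (MulAut.conj g⁻¹).toMonoidHom =
      Quat.qlev i := by
    rw [← hg, Subgroup.map_map]
    convert (Subgroup.map_id (Quat.qlev i)) using 2
    ext x
    simp [mul_assoc]
  rcases Nat.mod_two_eq_zero_or_one i.val with h | h <;> rw [h] at hinv
  · exact ⟨0, g⁻¹, by simpa using hinv⟩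
  · exact ⟨1, g⁻¹, by simpa using hinv⟩

theorem twoClasses_eight : TwoClasses (QuaternionGroup 2) :=
  ⟨fun _ => ⊤, fun _ _ hA hne => (Quat.not_cand_eight hne hA).elim⟩

/-- Among three essential subgroups two are conjugate in `S`. -/
theorem three_joined {Ω : Type*} [Group Ω] {S : Subgroup Ω} [Finite S] (hS : IsPGroup 2 S)
    {F : FusionSystem S} (hF : F.IsSaturated 2) {M : Type*} [Group M] (e : S ≃* M)
    (hM : TwoClasses M) (E₁ E₂ E₃ : Subgroup Ω) (h1 : F.IsEssential 2 E₁) (h2 : F.IsEssential 2 E₂)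
    (h3 : F.IsEssential 2 E₃) :
    (∃ φ ∈ F.Hom E₁, φ.range = E₂) ∨ (∃ φ ∈ F.Hom E₁, φ.range = E₃) ∨
      (∃ φ ∈ F.Hom E₂, φ.range = E₃) := by
  have : Fact (Nat.Prime 2) := ⟨Nat.prime_two⟩
  obtain ⟨R, hR⟩ := hM
  let img : Subgroup Ω → Subgroup M := fun P => (P.subgroupOf S).map e.toMonoidHom
  have hmem : ∀ (P : Subgroup Ω) (x : S), e x ∈ img P ↔ (x : Ω) ∈ P := fun P x =>
    Subgroup.mem_map_iff_mem e.injective
  have key : ∀ P, F.IsEssential 2 P → ∃ i, ∃ g : M, (R i).map (MulAut.conj g).toMonoidHom = img P := by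
    intro P hP
    obtain ⟨hPS, hC, -, hA, hne⟩ := essential_facts hS hF hP
    refine hR (img P) ?_ ?_ ?_
    · intro x hx
      obtain ⟨s, rfl⟩ := e.surjective x
      rw [hmem]
      refine hC ?_
      refine Subgroup.mem_inf.2 ⟨s.2, Subgroup.mem_centralizer_iff.2 fun y hy => ?_⟩
      have h := Subgroup.mem_centralizer_iff.1 hx (e ⟨y, hPS hy⟩) ((hmem P _).2 hy)
      rw [← map_mul, ← map_mul] at h
      exact congrArg Subtype.val (e.injective h)
    · intro h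
      let i : P ≃* img P := (Subgroup.subgroupOfEquivOfLe hPS).symm.trans
        ((P.subgroupOf S).equivMapOfInjective e.toMonoidHom e.injective)
      exact hA (h.of_equiv (MulAut.congr i).symm)
    · intro h
      refine hne (le_antisymm hPS fun s hs => ?_)
      exact (hmem P ⟨s, hs⟩).1 (h ▸ Subgroup.mem_top _)
  have join : ∀ {P P' : Subgroup Ω}, P ≤ S → P' ≤ S → ∀ {i : Fin 2} {g g' : M},
      (R i).map (MulAut.conj g).toMonoidHom = img P →
      (R i).map (MulAut.conj g').toMonoidHom = img P' → ∃ φ ∈ F.Hom P, φ.range = P' := by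
    intro P P' hP hP' i g g' hg hg'
    set s : S := e.symm (g' * g⁻¹) with hs
    refine ⟨_, F.conj_mem hP s.2, ?_⟩
    have hr : ∀ y : S, (y : Ω) ∈ P → ((s * y * s⁻¹ : S) : Ω) ∈ P' := by
      intro y hy
      have h1 : e y ∈ (R i).map (MulAut.conj g).toMonoidHom := hg.symm ▸ (hmem P y).2 hy
      obtain ⟨r, hr, hre⟩ := h1
      refine (hmem P' _).1 (hg' ▸ ⟨r, hr, ?_⟩)
      rw [map_mul, map_mul, map_inv, hs, e.apply_symm_apply, ← hre]
      show g' * r * g'⁻¹ = g' * g⁻¹ * (g * r * g⁻¹) * (g' * g⁻¹)⁻¹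
      group
    apply le_antisymm
    · rintro _ ⟨x, rfl⟩
      exact hr ⟨x, hP x.2⟩ x.2
    · intro z hz
      have h1 : e ⟨z, hP' hz⟩ ∈ (R i).map (MulAut.conj g').toMonoidHom :=
        hg'.symm ▸ (hmem P' _).2 hz
      obtain ⟨r, hr, hre⟩ := h1
      have h2 : ((s⁻¹ * ⟨z, hP' hz⟩ * s : S) : Ω) ∈ P := by
        refine (hmem P _).1 (hg ▸ ⟨r, hr, ?_⟩)
        rw [map_mul, map_mul, map_inv, hs, e.apply_symm_apply, ← hre]
        show g * r * g⁻¹ = (g' * g⁻¹)⁻¹ * (g' * r * g'⁻¹) * (g' * g⁻¹)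
        group
      refine ⟨⟨_, h2⟩, ?_⟩
      show (s : Ω) * ((s : Ω)⁻¹ * z * s) * (s : Ω)⁻¹ = z
      group
  obtain ⟨i1, g1, e1⟩ := key _ h1
  obtain ⟨i2, g2, e2⟩ := key _ h2
  obtain ⟨i3, g3, e3⟩ := key _ h3
  rcases (show i1 = i2 ∨ i1 = i3 ∨ i2 = i3 by omega) with rfl | rfl | rfl
  · exact Or.inl (join h1.1.1 h2.1.1 e1 e2)
  · exact Or.inr (Or.inl (join h1.1.1 h3.1.1 e1 e3))
  · exact Or.inr (Or.inr (join h2.1.1 h3.1.1 e2 e3))

/-- A saturated system on the quaternion group of order eight is realisable. -/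
theorem isRealizable_eight {Ω : Type*} [Group Ω] {S : Subgroup Ω} [Finite S] (hS : IsPGroup 2 S)
    {F : FusionSystem S} (hF : F.IsSaturated 2) (e : S ≃* QuaternionGroup 2) :
    F.IsRealizable 2 := by
  have : Fact (Nat.Prime 2) := ⟨Nat.prime_two⟩
  refine isRealizable_of_normal hS hF (isNormal_of_no_essential hS hF fun P hP => ?_)
  obtain ⟨hPS, -, -, hA, hne⟩ := essential_facts hS hF hP
  refine Quat.not_cand_eight (P := (P.subgroupOf S).map e.toMonoidHom) ?_ ?_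
  · intro h
    refine hne (le_antisymm hPS fun s hs => ?_)
    have h1 : e ⟨s, hs⟩ ∈ (P.subgroupOf S).map e.toMonoidHom := h ▸ Subgroup.mem_top _
    exact (Subgroup.mem_map_iff_mem (f := e.toMonoidHom) (x := (⟨s, hs⟩ : S)) e.injective).1 h1
  · intro h
    let i : P ≃* ((P.subgroupOf S).map e.toMonoidHom : Subgroup (QuaternionGroup 2)) :=
      (Subgroup.subgroupOfEquivOfLe hPS).symm.trans
        ((P.subgroupOf S).equivMapOfInjective e.toMonoidHom e.injective)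
    exact hA (h.of_equiv (MulAut.congr i).symm)

end CfsgLib.Fusion.TwoRank
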