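import Cfsg.Agent.Lib.Fusion.AlperinGen
import Cfsg.Agent.Lib.Fusion.NormalCriterion
import Cfsg.Agent.Lib.Fusion.Normal

/-!
Saturated systems on 2-groups are determined by their automorphisms of odd order; systems
preserving a class function; groups with two classes of subgroups that can be essential.
-/

set_option autoImplicit false

namespace CfsgLib.Fusion.TwoRank

open Cfsg Cfsg.FusionSystem

/-- Two-groups and elements of odd order generate. -/
theorem sylow_sup_odd {A : Type*} [Group A] [Finite A] (R : Sylow 2 A) {H : Subgroup A}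
    (hR : (R : Subgroup A) ≤ H) (hodd : ∀ a : A, Odd (orderOf a) → a ∈ H) : H = ⊤ := by
  haveI : Fact (Nat.Prime 2) := ⟨Nat.prime_two⟩
  set N := Subgroup.closure {a : A | Odd (orderOf a)} with hN
  haveI : N.Normal := by
    constructor
    intro n hn g
    have : N.map (MulAut.conj g).toMonoidHom ≤ N := by
      rw [hN, MonoidHom.map_closure]
      refine Subgroup.closure_mono ?_
      rintro _ ⟨a, ha, rfl⟩
      show Odd (orderOf (MulAut.conj g a))
      rw [MulEquiv.orderOf_eq]
      exact ha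
    exact this ⟨n, hn, rfl⟩
  have hNH : N ≤ H := (Subgroup.closure_le _).2 hodd
  have hquot : IsPGroup 2 (A ⧸ N) := by
    intro x
    obtain ⟨g, rfl⟩ := QuotientGroup.mk_surjective x
    refine ⟨(orderOf g).factorization 2, ?_⟩
    rw [← QuotientGroup.mk_pow, QuotientGroup.eq_one_iff]
    refine Subgroup.subset_closure ?_
    show Odd (orderOf (g ^ _))
    rw [orderOf_pow_of_dvd (pow_ne_zero _ two_ne_zero) (Nat.ordProj_dvd _ _),
      ← Nat.not_even_iff_odd, even_iff_two_dvd]
    exact Nat.not_dvd_ordCompl Nat.prime_two (orderOf_pos g).ne'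
  obtain ⟨k, hk⟩ := IsPGroup.iff_card.1 hquot
  have h1 : H.index ∣ 2 ^ k := by
    have := Subgroup.index_dvd_of_le hNH
    rwa [show N.index = 2 ^ k from hk] at this
  have h2 : H.index ∣ (R : Subgroup A).index := Subgroup.index_dvd_of_le hR
  obtain ⟨i, -, hi⟩ := (Nat.dvd_prime_pow Nat.prime_two).1 h1
  rcases Nat.eq_zero_or_pos i with rfl | hpos
  · exact Subgroup.index_eq_one.1 (hi.trans (pow_zero 2))
  · exact absurd (((dvd_pow_self 2 hpos.ne').trans (hi ▸ h2 : 2 ^ i ∣ _))) R.not_dvd_index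

variable {Ω : Type*} [Group Ω] {S : Subgroup Ω}

/-- A system containing the automorphisms of odd order of the essential subgroups and of the top
of a saturated system contains the whole system. -/
theorem le_of_odd [Finite S] (hS : IsPGroup 2 S) {F : FusionSystem S} (hF : F.IsSaturated 2)
    (E : FusionSystem S)
    (h : ∀ P : Subgroup Ω, (P = S ∨ F.IsEssential 2 P) → ∀ α ∈ F.autGroup P,
      Odd (orderOf α) → α ∈ E.autGroup P) : F ≤ E := by
  haveI : Fact (Nat.Prime 2) := ⟨Nat.prime_two⟩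
  refine alperin hS hF E fun P hP => ?_
  have hPS : P ≤ S := by
    rcases hP with rfl | hP'
    exacts [le_rfl, hP'.1.1]
  haveI := finite_mulAut_of_le (S := S) hPS
  have hn : F.IsFullyNormalized P := by
    rcases hP with rfl | hP'
    exacts [isFullyNormalized_self, hP'.2.1]
  obtain ⟨R, hR⟩ := (IsSaturated.fullyAutomized hS hF hn).2
  intro α hα
  have htop := sylow_sup_odd R (H := (E.autGroup P).subgroupOf (F.autGroup P))
    (hR.le.trans fun a ha => autInducedBy_le_autGroup hPS ha)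
    (fun a ha => h P hP a a.2 (by rwa [Subgroup.orderOf_coe]))
  exact htop.ge (Subgroup.mem_top (⟨α, hα⟩ : F.autGroup P))

/-- The maps preserving a class function `χ`. -/
def presSys (S : Subgroup Ω) {X : Type*} (χ : Ω → X)
    (hχ : ∀ g ∈ S, ∀ x ∈ S, χ (g * x * g⁻¹) = χ x) : FusionSystem S where
  Hom P := {φ | P ≤ S ∧ (∀ x, φ x ∈ S) ∧ Function.Injective φ ∧ ∀ x : P, χ (φ x) = χ x}
  le_of_mem h := ⟨h.1, h.2.1⟩
  injective_of_mem h := h.2.2.1
  conj_mem := by
    intro P g hP hg
    refine ⟨hP, fun x => S.mul_mem (S.mul_mem hg (hP x.2)) (S.inv_mem hg), fun a b hab => ?_,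
      fun x => hχ g hg x (hP x.2)⟩
    exact Subtype.ext (mul_left_cancel (mul_right_cancel (hab : g * (a : Ω) * g⁻¹ = _)))
  comp_mem := by
    rintro P Q φ ψ ⟨hP, hφS, hφi, hφ⟩ ⟨-, hψS, hψi, hψ⟩ h
    refine ⟨hP, fun x => hψS _, fun a b hab => hφi (congrArg Subtype.val (hψi hab) :),
      fun x => (hψ _).trans (hφ x)⟩
  inv_mem := by
    rintro P φ ⟨hP, hφS, hφi, hφ⟩
    set e := MonoidHom.ofInjective hφi
    refine ⟨P.subtype.comp e.symm.toMonoidHom, ⟨?_, fun y => hP (e.symm y).2, ?_, fun y => ?_⟩,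
      fun x => ?_⟩
    · rintro _ ⟨x, rfl⟩
      exact hφS x
    · exact P.subtype_injective.comp e.symm.injective
    · obtain ⟨x, rfl⟩ := e.surjective y
      show χ ((e.symm (e x) : P) : Ω) = χ (φ x)
      rw [MulEquiv.symm_apply_apply, hφ]
    · show ((e.symm ⟨φ x, _⟩ : P) : Ω) = x
      rw [show (⟨φ x, ⟨x, rfl⟩⟩ : φ.range) = e x from Subtype.ext rfl, MulEquiv.symm_apply_apply]

/-- All maps of `F` preserve `χ`. -/
def Pres (F : FusionSystem S) {X : Type*} (χ : Ω → X) : Prop :=
  ∀ (P : Subgroup Ω) (φ : P →* Ω), φ ∈ F.Hom P → ∀ x : P, χ (φ x) = χ x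

theorem Pres.of_le_presSys {F : FusionSystem S} {X : Type*} {χ : Ω → X}
    {hχ : ∀ g ∈ S, ∀ x ∈ S, χ (g * x * g⁻¹) = χ x} (h : F ≤ presSys S χ hχ) : Pres F χ :=
  fun P _ hφ => (h P hφ).2.2.2

section Model

variable {M : Type*} [Group M]

/-- A subgroup that can be essential. -/
def Cand (P : Subgroup M) : Prop :=
  Subgroup.centralizer (P : Set M) ≤ P ∧ ¬ IsPGroup 2 (MulAut P)

theorem isPGroup_of_no_odd {A : Type*} [Group A] [Finite A]
    (h : ∀ a : A, Odd (orderOf a) → a = 1) : IsPGroup 2 A := by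
  intro a
  refine ⟨(orderOf a).factorization 2, h _ ?_⟩
  rw [orderOf_pow_of_dvd (pow_ne_zero _ two_ne_zero) (Nat.ordProj_dvd _ _),
    ← Nat.not_even_iff_odd, even_iff_two_dvd]
  exact Nat.not_dvd_ordCompl Nat.prime_two (orderOf_pos a).ne'

theorem eq_one_of_odd {A : Type*} [Group A] (h : IsPGroup 2 A) {a : A} (ha : Odd (orderOf a)) :
    a = 1 := by
  obtain ⟨k, hk⟩ := h a
  obtain ⟨i, -, hi⟩ := (Nat.dvd_prime_pow Nat.prime_two).1 (orderOf_dvd_of_pow_eq_one hk)
  rcases Nat.eq_zero_or_pos i with rfl | hpos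
  · exact orderOf_eq_one_iff.1 (hi.trans (pow_zero 2))
  · rw [hi] at ha
    exact absurd ((Nat.even_pow (m := 2)).2 ⟨even_two, hpos.ne'⟩) (Nat.not_even_iff_odd.2 ha)

theorem cand_of_essential [Finite M] {F : FusionSystem (⊤ : Subgroup M)} {P : Subgroup M}
    (hP : F.IsEssential 2 P) : Cand P := by
  haveI : Fact (Nat.Prime 2) := ⟨Nat.prime_two⟩
  refine ⟨fun x hx => hP.1.2 P (isConj_refl le_top) ⟨Subgroup.mem_top x, hx⟩, fun h => ?_⟩
  exact not_isEssential_of_isPGroup (h.to_subgroup _) hP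

/-- A group with two classes of subgroups which can be essential, told apart by characters. -/
structure Shape (M : Type*) [Group M] where
  r : Fin 2 → Subgroup M
  χ : Fin 2 → (M →* Multiplicative (ZMod 2))
  cand : ∀ P, Cand P → ∃ i g, P = (r i).map (MulAut.conj g).toMonoidHom
  kill : ∀ i j, i ≠ j → r j ≤ (χ i).ker
  move : ∀ i (α : MulAut (r i)), Odd (orderOf α) →
    (∀ x : r i, χ i ((α x : r i) : M) = χ i x) → α = 1

variable [Finite M] (D : Shape M)

/-- Some automorphism of odd order of `r i` belongs to the system. -/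
def Shape.Active (E : FusionSystem (⊤ : Subgroup M)) (i : Fin 2) : Prop :=
  ∃ α ∈ E.autGroup (D.r i), Odd (orderOf α) ∧ α ≠ 1

theorem Shape.le_of_agree (hM : IsPGroup 2 M) {E E' : FusionSystem (⊤ : Subgroup M)}
    (hE : E.IsSaturated 2)
    (h : ∀ i, ∀ α ∈ E.autGroup (D.r i), Odd (orderOf α) → α ≠ 1 → α ∈ E'.autGroup (D.r i)) :
    E ≤ E' := by
  haveI : Fact (Nat.Prime 2) := ⟨Nat.prime_two⟩
  refine le_of_odd (hM.to_subgroup _) hE E' fun P hP α hα hodd => ?_
  by_cases h1 : α = 1
  · rw [h1]; exact one_mem _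
  have hc : Cand P := by
    rcases hP with rfl | hP'
    · refine ⟨le_top, fun hp => h1 (eq_one_of_odd hp hodd)⟩
    · exact cand_of_essential hP'
  obtain ⟨i, g, rfl⟩ := D.cand P hc
  set e := (D.r i).equivMapOfInjective (MulAut.conj g).toMonoidHom (MulAut.conj g).injective with he
  have hiso : ∀ (F : FusionSystem (⊤ : Subgroup M)), IsoIn F e := fun F =>
    conj_mem' (g := g) le_top (Subgroup.mem_top g) fun x => rfl
  rw [← (hiso E).congr_autGroup] at hα
  obtain ⟨β, hβ, hβα⟩ := hα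
  have hβo : orderOf β = orderOf α := by
    rw [← hβα]
    exact (MulEquiv.orderOf_eq (MulAut.congr e) β).symm
  have hβ' := h i β hβ (hβo ▸ hodd) (fun hb => h1 (by rw [← hβα, hb, map_one]))
  rw [← (hiso E').congr_autGroup]
  exact ⟨β, hβ', hβα⟩

/-- A character is preserved exactly when its class is inactive. -/
theorem Shape.pres_iff (hM : IsPGroup 2 M) {E : FusionSystem (⊤ : Subgroup M)}
    (hE : E.IsSaturated 2) (i : Fin 2) : Pres E (D.χ i) ↔ ¬ D.Active E i := by
  constructor
  · rintro h ⟨α, hα, hodd, hne⟩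
    refine hne (D.move i α hodd fun x => ?_)
    exact h _ _ ((mem_autGroup_iff le_top).1 hα) x
  · intro h
    refine Pres.of_le_presSys (hχ := fun g _ x _ => by
      rw [map_mul, map_mul, map_inv, mul_inv_cancel_comm]) (D.le_of_agree hM hE
        fun j α hα hodd hne => ?_)
    rcases eq_or_ne i j with rfl | hij
    · exact absurd ⟨α, hα, hodd, hne⟩ h
    · refine (mem_autGroup_iff le_top).2
        ⟨le_top, fun _ => Subgroup.mem_top _, fun a b hab => α.injective (Subtype.ext hab),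
          fun x => ?_⟩
      exact (MonoidHom.mem_ker.1 (D.kill i j hij (α x).2)).trans
        (MonoidHom.mem_ker.1 (D.kill i j hij x.2)).symm

/-- Automorphisms of odd order are unique up to inner ones. -/
def Rigid (P : Subgroup M) : Prop :=
  ∀ α β : MulAut P, Odd (orderOf α) → Odd (orderOf β) → α ≠ 1 → β ∈ Inn P ⊔ Subgroup.zpowers α

theorem Shape.agree_of_rigid {E E' : FusionSystem (⊤ : Subgroup M)} {i : Fin 2}
    (hr : Rigid (D.r i)) (h : D.Active E i → D.Active E' i) :
    ∀ α ∈ E.autGroup (D.r i), Odd (orderOf α) → α ≠ 1 → α ∈ E'.autGroup (D.r i) := by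
  intro α hα hodd hne
  obtain ⟨β, hβ, hβo, hβ1⟩ := h ⟨α, hα, hodd, hne⟩
  exact sup_le (inn_le_autGroup le_top) (Subgroup.zpowers_le.2 hβ) (hr β α hβo hodd hβ1)

end Model

end CfsgLib.Fusion.TwoRank
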