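import Cfsg.Agent.Lib.Fusion.TwoRank.Generic
import Cfsg.Agent.Lib.Fusion.TwoRank.Examples.Special
import Cfsg.Agent.Lib.Fusion.TwoRank.Examples.Extension
import Cfsg.Agent.Lib.Fusion.TwoTypes.Automisers
import Cfsg.Agent.Lib.Fusion.TwoTypes.Dihedral
import Cfsg.Agent.Lib.Fusion.TwoTypes.Models

/-!
Saturated systems on generalized quaternion groups: the two classes of quaternion subgroups of
order eight, and realisations for every pattern of active classes.
-/

set_option autoImplicit false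

namespace CfsgLib.Fusion.TwoRank.Quat

open Cfsg Cfsg.FusionSystem CfsgLib.Fusion CfsgLib.Fusion.TwoTypes
open CfsgLib.TwoGroups QuaternionGroup

/-- The generalized quaternion group of order `2 ^ (k + 4)`. -/
abbrev Q (k : ℕ) := QuaternionGroup (2 ^ (k + 2))

/-- Its exponents. -/
abbrev Z (k : ℕ) := ZMod (2 * 2 ^ (k + 2))

variable {k : ℕ}

instance : NeZero (2 * 2 ^ (k + 2)) := ⟨mul_ne_zero two_ne_zero (pow_ne_zero _ two_ne_zero)⟩

/-- A quarter turn. -/
def qq (k : ℕ) : Z k := ((2 ^ (k + 1) : ℕ) : Z k)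

/-- The half turn. -/
def hh (k : ℕ) : Z k := ((2 ^ (k + 2) : ℕ) : Z k)

theorem two_mul_hh : 2 * hh k = 0 := by
  have h := ZMod.natCast_self (2 * 2 ^ (k + 2))
  push_cast at h
  rw [hh]; push_cast
  exact h

theorem four_mul_qq : 4 * qq k = 0 := by
  have h := two_mul_hh (k := k)
  rw [hh] at h
  push_cast at h
  rw [qq]; push_cast
  linear_combination h

theorem exists_qq {t : Z k} (h : 4 * t = 0) : ∃ c : ℕ, t = c * qq k := by
  have h1 : ((4 * t.val : ℕ) : Z k) = 0 := by push_cast; rw [ZMod.natCast_zmod_val]; exact h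
  rw [ZMod.natCast_eq_zero_iff] at h1
  have h4 : 4 * 2 ^ (k + 1) = 2 * 2 ^ (k + 2) := by ring
  obtain ⟨c, hc⟩ := Nat.dvd_of_mul_dvd_mul_left (show 0 < 4 by norm_num) (h4.dvd.trans h1)
  refine ⟨c, ?_⟩
  rw [← ZMod.natCast_zmod_val t, hc, qq]
  push_cast; ring

/-- Parity. -/
def par (k : ℕ) : Z k →+* ZMod 2 := ZMod.castHom (dvd_mul_right 2 _) (ZMod 2)

theorem par_qq : par k (qq k) = 0 := by
  rw [qq, map_natCast, ZMod.natCast_eq_zero_iff]
  exact dvd_pow_self 2 (by omega)

theorem par_hh : par k (hh k) = 0 := by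
  rw [hh, map_natCast, ZMod.natCast_eq_zero_iff]
  exact dvd_pow_self 2 (by omega)

theorem par_four {t : Z k} (h : 4 * t = 0) : par k t = 0 := by
  obtain ⟨c, rfl⟩ := exists_qq h
  rw [map_mul, par_qq, mul_zero]

/-- A quaternion subgroup of order eight. -/
def qlev (i : Z k) : Subgroup (Q k) where
  carrier := {g | match g with
    | .a t => 4 * t = 0
    | .xa t => 4 * (t - i) = 0}
  one_mem' := by
    show 4 * (0 : Z k) = 0
    rw [mul_zero]
  mul_mem' := by
    rintro (s | s) (t | t) hs ht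
    · show 4 * (s + t) = 0
      change 4 * s = 0 at hs; change 4 * t = 0 at ht
      linear_combination hs + ht
    · show 4 * (t - s - i) = 0
      change 4 * s = 0 at hs; change 4 * (t - i) = 0 at ht
      linear_combination ht - hs
    · show 4 * (s + t - i) = 0
      change 4 * (s - i) = 0 at hs; change 4 * t = 0 at ht
      linear_combination hs + ht
    · show 4 * (hh k + t - s) = 0
      change 4 * (s - i) = 0 at hs; change 4 * (t - i) = 0 at ht
      linear_combination ht - hs + 2 * two_mul_hh (k := k)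
  inv_mem' := by
    rintro (s | s) hs
    · show 4 * (-s) = 0
      change 4 * s = 0 at hs
      linear_combination -hs
    · show 4 * (hh k + s - i) = 0
      change 4 * (s - i) = 0 at hs
      linear_combination hs + 2 * two_mul_hh (k := k)

theorem a_mem {i t : Z k} : a t ∈ qlev i ↔ 4 * t = 0 := Iff.rfl

theorem xa_mem {i t : Z k} : xa t ∈ qlev i ↔ 4 * (t - i) = 0 := Iff.rfl

theorem qlev_congr {i j : Z k} (h : 4 * (i - j) = 0) : qlev i = qlev j := by
  ext (t | t)
  · exact Iff.rfl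
  · rw [xa_mem, xa_mem]
    exact ⟨fun h' => by linear_combination h' + h, fun h' => by linear_combination h' - h⟩

theorem isPGroup : IsPGroup 2 (Q k) :=
  IsPGroup.of_card (n := k + 4) (by rw [Nat.card_eq_fintype_card, QuaternionGroup.card]; ring)

theorem isPGroup_top : IsPGroup 2 (⊤ : Subgroup (Q k)) := isPGroup.to_subgroup ⊤

theorem conj_qlev (s i : Z k) :
    (qlev i).map (MulAut.conj (a s : Q k)).toMonoidHom = qlev (i - 2 * s) := by
  have hinv : (a s : Q k)⁻¹ = a (-s) := rfl
  ext (t | t)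
  · rw [mem_map_conj, hinv, a_mul_a, a_mul_a, a_mem, a_mem, show -s + t + s = t by ring]
  · rw [mem_map_conj, hinv, a_mul_xa, xa_mul_a, xa_mem, xa_mem,
      show t - -s + s - i = t - (i - 2 * s) by ring]

theorem exists_conj (i : Z k) :
    ∃ g : Q k, (qlev i).map (MulAut.conj g).toMonoidHom = qlev ((i.val % 2 : ℕ) : Z k) := by
  refine ⟨a ((i.val / 2 : ℕ) : Z k), ?_⟩
  rw [conj_qlev]
  congr 1
  rw [sub_eq_iff_eq_add]
  conv_lhs => rw [← ZMod.natCast_zmod_val i, ← Nat.mod_add_div i.val 2]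
  push_cast
  ring

theorem exists_equiv (i : Z k) : Nonempty (QuaternionGroup 2 ≃* qlev i) := by
  let x : qlev i := ⟨a (qq k), a_mem.2 four_mul_qq⟩
  let y : qlev i := ⟨xa i, xa_mem.2 (by ring)⟩
  have hpow : ∀ c : ℕ, (a (qq k) : Q k) ^ c = a ((c : Z k) * qq k) := by
    intro c
    induction c with
    | zero => rw [pow_zero, Nat.cast_zero, zero_mul]; rfl
    | succ c ih => rw [pow_succ (a (qq k) : Q k) c, ih, a_mul_a]; congr 1; push_cast; ring
  have h2q : ((2 : ℕ) : Z k) * qq k = hh k := by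
    rw [qq, hh]; push_cast; ring
  have hx : x ^ (2 * 2) = 1 := Subtype.ext (by
    rw [SubgroupClass.coe_pow, hpow]
    show a _ = a 0
    congr 1
    push_cast
    linear_combination four_mul_qq (k := k))
  have hy : y * y = x ^ 2 := Subtype.ext (by
    rw [SubgroupClass.coe_pow, hpow, h2q]
    show (xa i : Q k) * xa i = _
    rw [xa_mul_xa]
    congr 1
    show hh k + i - i = hh k
    ring)
  have hc : y * x * y⁻¹ = x⁻¹ := Subtype.ext (by
    show (xa i : Q k) * a (qq k) * (xa i)⁻¹ = a (-qq k)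
    rw [mul_inv_eq_iff_eq_mul, xa_mul_a, a_mul_xa]
    congr 1
    ring)
  have hxo : orderOf x = 2 * 2 := by
    haveI : Fact (Nat.Prime 2) := ⟨Nat.prime_two⟩
    refine (orderOf_eq_prime_pow (p := 2) (n := 1) (fun h => ?_) (by simpa using hx)).trans (by norm_num)
    have h' : (a (qq k) : Q k) ^ 2 ^ 1 = 1 := congrArg Subtype.val h
    rw [pow_one, hpow, h2q, one_def, hh] at h'
    have h'' := a.inj h'
    rw [ZMod.natCast_eq_zero_iff] at h''
    have := Nat.le_of_dvd (by positivity) h''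
    have := Nat.two_pow_pos (k + 2)
    omega
  obtain ⟨f, hfa, hfx⟩ := quaternion_hom hx hy hc
  have hinj := quaternion_injective (by decide) hxo f hfa
  refine ⟨MulEquiv.ofBijective f ⟨hinj, ?_⟩⟩
  have hval : ∀ c : ℕ, ((zexp x ((c : ℕ) : ZMod (2 * 2)) : qlev i) : Q k) = a ((c : Z k) * qq k) := by
    intro c
    rw [zexp_natCast hx, SubgroupClass.coe_pow, hpow]
  rintro ⟨t | t, ht⟩
  · obtain ⟨c, hc'⟩ := exists_qq (a_mem.1 ht)
    refine ⟨.a (c : ZMod (2 * 2)), Subtype.ext ?_⟩
    rw [hfa, hval]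
    exact congrArg QuaternionGroup.a hc'.symm
  · obtain ⟨c, hc'⟩ := exists_qq (xa_mem.1 ht)
    refine ⟨.xa (c : ZMod (2 * 2)), Subtype.ext ?_⟩
    rw [hfx, Subgroup.coe_mul, hval]
    show (xa i : Q k) * a ((c : Z k) * qq k) = xa t
    rw [xa_mul_a, ← hc']
    congr 1
    ring

/-- The self-centralising subgroups with non-`2`-group automorphisms. -/
theorem cand {P : Subgroup (Q k)} (hC : Subgroup.centralizer (P : Set (Q k)) ≤ P)
    (hA : ¬ IsPGroup 2 (MulAut P)) : ∃ i, P = qlev i := by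
  have : Fact (Nat.Prime 2) := ⟨Nat.prime_two⟩
  set cyc := Subgroup.zpowers (a (1 : Z k) : Q k) with hcyc
  have hacyc : ∀ t : Z k, (a t : Q k) ∈ cyc := fun t => by
    obtain ⟨j, rfl⟩ := ZMod.natCast_zmod_surjective t
    rw [← a_one_pow]
    exact Subgroup.pow_mem _ (Subgroup.mem_zpowers _) j
  have hxcyc : ∀ t : Z k, (xa t : Q k) ∉ cyc := by
    intro t ht
    obtain ⟨j, hj⟩ := mem_powers_iff_mem_zpowers.2 ht
    replace hj : (a (1 : Z k) : Q k) ^ j = xa t := hj
    rw [a_one_pow] at hj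
    injection hj
  obtain ⟨i, hi⟩ : ∃ i, xa i ∈ P := by
    by_contra hcon
    push Not at hcon
    have hle : P ≤ cyc := by
      rintro (t | t) ht
      · exact hacyc t
      · exact absurd ht (hcon t)
    have hc : IsCyclic P := Subgroup.isCyclic_of_le hle
    exact hA (isPGroup_mulAut_cyclic (isPGroup.to_subgroup P))
  set R := cyc.subgroupOf P with hR
  haveI : IsCyclic cyc := Subgroup.isCyclic_zpowers _
  haveI : IsCyclic R :=
    isCyclic_of_injective (((Subgroup.subtype P).comp R.subtype).codRestrict cyc fun x => x.2)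
      fun x y h => Subtype.ext (Subtype.ext (congrArg (fun t : cyc => (t : Q k)) h))
  obtain ⟨⟨r0, hr0⟩, hgen⟩ := IsCyclic.exists_generator (α := R)
  have hRz : Subgroup.zpowers r0 = R := le_antisymm (Subgroup.zpowers_le.2 hr0) fun x hx => by
    obtain ⟨j, hj⟩ := Subgroup.mem_zpowers_iff.1 (hgen ⟨x, hx⟩)
    exact ⟨j, congrArg Subtype.val hj⟩
  have hidx : (Subgroup.zpowers r0).index = 2 := by
    rw [hRz, Subgroup.index_eq_two_iff]
    refine ⟨⟨xa i, hi⟩, fun b => ?_⟩
    show Xor ((b : Q k) * xa i ∈ cyc) ((b : Q k) ∈ cyc)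
    obtain ⟨t | t, ht⟩ := b
    · exact Or.inr ⟨hacyc t, by rw [a_mul_xa]; exact hxcyc _⟩
    · exact Or.inl ⟨by rw [xa_mul_xa]; exact hacyc _, hxcyc t⟩
  obtain ⟨j, hj⟩ := IsPGroup.iff_card.1 ((isPGroup.to_subgroup P).to_subgroup R)
  have hord : orderOf r0 = 2 ^ j := by rw [← Nat.card_zpowers, hRz, hj]
  have hcard : Nat.card P = 2 ^ (j + 1) := by
    have h := (Subgroup.zpowers r0).card_mul_index
    rw [Nat.card_zpowers, hord, hidx] at h
    rw [← h, pow_succ]
  rcases (show j ≤ 1 ∨ j = 2 ∨ 3 ≤ j by omega) with h | rfl | h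
  · exfalso
    have h4 : orderOf (⟨xa i, hi⟩ : P) = 4 := by rw [Subgroup.orderOf_mk, orderOf_xa]
    have hd : orderOf (⟨xa i, hi⟩ : P) ∣ Nat.card P := orderOf_dvd_natCard _
    rw [h4, hcard] at hd
    obtain rfl : j = 1 := by
      by_contra hne
      obtain rfl : j = 0 := by omega
      norm_num at hd
    have hc : IsCyclic P := isCyclic_of_orderOf_eq_card ⟨xa i, hi⟩ (by rw [h4, hcard]; rfl)
    exact hA (isPGroup_mulAut_cyclic (isPGroup.to_subgroup P))
  · refine ⟨i, Subgroup.eq_of_le_of_card_ge ?_ ?_⟩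
    · have hrot : ∀ t, a t ∈ P → 4 * t = (0 : Z k) := by
        intro t ht
        obtain ⟨c, hc⟩ := Subgroup.mem_zpowers_iff.1
          (hRz.symm ▸ (show (⟨a t, ht⟩ : P) ∈ R from hacyc t))
        have h1 : (r0 ^ c) ^ 2 ^ 2 = 1 := by
          rw [← zpow_natCast, ← zpow_mul, mul_comm, zpow_mul, zpow_natCast, ← hord,
            pow_orderOf_eq_one, one_zpow]
        rw [hc] at h1
        have h2 : (a t : Q k) ^ 2 ^ 2 = 1 := congrArg Subtype.val h1
        have h4 : (a t : Q k) ^ 2 ^ 2 = a (t + t + t + t) := by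
          simp [pow_succ, a_mul_a]
        rw [h4, one_def] at h2
        linear_combination a.inj h2
      rintro (t | t) ht
      · exact a_mem.2 (hrot t ht)
      · have h1 := P.mul_mem hi ht
        rw [xa_mul_xa] at h1
        have h2 : 4 * (hh k + t - i) = 0 := hrot _ h1
        exact xa_mem.2 (by linear_combination h2 - 2 * two_mul_hh (k := k))
    · rw [hcard]
      obtain ⟨e⟩ := exists_equiv i
      rw [← Nat.card_congr e.toEquiv, Nat.card_eq_fintype_card, QuaternionGroup.card]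
      rfl
  · exfalso
    refine hA fun β => exists_pow_eq_one_of_maximal_cyclic (isPGroup.to_subgroup P) hord (by omega)
      hidx ?_ β
    rintro ⟨t | t, ht⟩ hout ho
    · exact hout (hRz.symm ▸ (show (⟨a t, ht⟩ : P) ∈ R from hacyc t))
    · rw [Subgroup.orderOf_mk, orderOf_xa] at ho
      have := Nat.pow_le_pow_right two_pos h
      omega

/-- The character killing the class of `xa c`. -/
def chr (k : ℕ) (c : ZMod 2) : Q k → ZMod 2
  | .a t => par k t
  | .xa t => par k t + c

theorem chr_mul (c : ZMod 2) (x y : Q k) : chr k c (x * y) = chr k c x + chr k c y := by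
  rcases x with s | s <;> rcases y with t | t
  · show par k (s + t) = par k s + par k t
    exact map_add _ _ _
  · show par k (t - s) + c = par k s + (par k t + c)
    rw [map_sub, CharTwo.sub_eq_add]; abel
  · show par k (s + t) + c = par k s + c + par k t
    rw [map_add]; abel
  · show par k (hh k + t - s) = par k s + c + (par k t + c)
    rw [map_sub, map_add, par_hh, zero_add, CharTwo.sub_eq_add, add_add_add_comm,
      CharTwo.add_self_eq_zero, add_zero, add_comm]

theorem chr_conj (c : ZMod 2) (g x : Q k) : chr k c (g * x * g⁻¹) = chr k c x := by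
  have h0 : chr k c 1 = 0 := map_zero (par k)
  have h := chr_mul c g g⁻¹
  rw [mul_inv_cancel, h0] at h
  rw [chr_mul, chr_mul, add_comm (chr k c g), add_assoc, ← h, add_zero]

theorem chr_kill {c : ZMod 2} {i : Z k} (hi : par k i = c) {g : Q k} (hg : g ∈ qlev i) :
    chr k c g = 0 := by
  rcases g with t | t
  · exact par_four (a_mem.1 hg)
  · show par k t + c = 0
    have h := par_four (xa_mem.1 hg)
    rw [map_sub, hi, CharTwo.sub_eq_add] at h
    exact h

section System

variable {F F' : FusionSystem (⊤ : Subgroup (Q k))}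

theorem autGroup_top (hF : F.IsSaturated 2) :
    F.autGroup ⊤ = Inn (⊤ : Subgroup (Q k)) :=
  autGroup_top_eq_inn isPGroup_top hF (transfer_aut Subgroup.topEquiv (quaternion_aut (by omega)))

/-- The class of `qlev i` carries the full automiser. -/
def Act (F : FusionSystem (⊤ : Subgroup (Q k))) (i : Z k) : Prop := F.autGroup (qlev i) = ⊤

theorem act_mod (i : Z k) : Act F i ↔ Act F ((i.val % 2 : ℕ) : Z k) := by
  obtain ⟨g, hg⟩ := exists_conj i
  refine ⟨autGroup_eq_top_conj le_top (Subgroup.mem_top g) hg, fun h => ?_⟩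
  refine autGroup_eq_top_conj le_top (Subgroup.mem_top g⁻¹) ?_ h
  rw [← hg, Subgroup.map_map]
  convert (Subgroup.map_id (qlev i)) using 2
  ext x
  simp [mul_assoc]

theorem act_of_essential (hF : F.IsSaturated 2) {P : Subgroup (Q k)} (hP : F.IsEssential 2 P) :
    ∃ i, P = qlev i ∧ Act F i := by
  have : Fact (Nat.Prime 2) := ⟨Nat.prime_two⟩
  obtain ⟨-, hC, -, hA, -⟩ := essential_facts isPGroup_top hF hP
  rw [centralizerIn_top] at hC
  obtain ⟨i, rfl⟩ := cand hC hA
  obtain ⟨e⟩ := exists_equiv i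
  exact ⟨i, rfl, autGroup_q8 isPGroup_top hF hP e.symm⟩

theorem le_of_act (hF : F.IsSaturated 2) (h0 : Act F 0 → Act F' 0) (h1 : Act F 1 → Act F' 1) :
    F ≤ F' := by
  have : Fact (Nat.Prime 2) := ⟨Nat.prime_two⟩
  refine le_of_tops isPGroup_top hF (autGroup_top hF) fun P hP => ?_
  obtain ⟨i, rfl, hi⟩ := act_of_essential hF hP
  have h' : Act F' i := by
    rw [act_mod] at hi ⊢
    rcases Nat.mod_two_eq_zero_or_one i.val with h | h <;> rw [h] at hi ⊢
    · rw [Nat.cast_zero] at hi ⊢; exact h0 hi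
    · rw [Nat.cast_one] at hi ⊢; exact h1 hi
  exact le_of_le_of_eq le_top h'.symm

theorem eq_of_act (hF : F.IsSaturated 2) (hF' : F'.IsSaturated 2) (h0 : Act F 0 ↔ Act F' 0)
    (h1 : Act F 1 ↔ Act F' 1) : F = F' :=
  system_ext fun P => Set.Subset.antisymm (le_of_act hF h0.1 h1.1 P) (le_of_act hF' h0.2 h1.2 P)

/-- An inactive class makes the opposite character invariant. -/
theorem chr_eq_of_not_act (hF : F.IsSaturated 2) {j : ℕ} (hj : j < 2) (hA : ¬ Act F (j : Z k))
    {x y : Q k} (hxy : F.IsConjElt x y) :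
    chr k ((j + 1 : ℕ) : ZMod 2) x = chr k ((j + 1 : ℕ) : ZMod 2) y := by
  have : Fact (Nat.Prime 2) := ⟨Nat.prime_two⟩
  set c : ZMod 2 := ((j + 1 : ℕ) : ZMod 2) with hc
  have hle : F ≤ presSys ⊤ (chr k c) (fun g _ z _ => chr_conj c g z) := by
    refine le_of_tops isPGroup_top hF (autGroup_top hF) fun P hP => ?_
    obtain ⟨i, rfl, hi⟩ := act_of_essential hF hP
    intro α _
    refine (mem_autGroup_iff le_top).2
      ⟨le_top, fun _ => Subgroup.mem_top _, fun u v huv => α.injective (Subtype.ext huv), fun z => ?_⟩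
    have hpar : par k i = c := by
      rw [act_mod] at hi
      have hne : i.val % 2 ≠ j := fun h => hA (h ▸ hi)
      have e : par k i = ((i.val : ℕ) : ZMod 2) := by
        rw [← map_natCast (par k), ZMod.natCast_zmod_val]
      rw [e, hc, ZMod.natCast_eq_natCast_iff']
      omega
    exact (chr_kill hpar (α z).2).trans (chr_kill hpar z.2).symm
  obtain ⟨φ, hφ, rfl⟩ := hxy
  exact ((hle _ hφ).2.2.2 ⟨x, Subgroup.mem_zpowers x⟩).symm

/-- An active class fuses its generators. -/
theorem isConjElt_of_act {i : Z k} (h : Act F i) : F.IsConjElt (a (qq k)) (xa i) := by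
  obtain ⟨e⟩ := exists_equiv i
  let x : qlev i := ⟨a (qq k), a_mem.2 four_mul_qq⟩
  let y : qlev i := ⟨xa i, xa_mem.2 (by ring)⟩
  have hsw : ∀ u v : QuaternionGroup 2, u * u ≠ 1 → v * v ≠ 1 → u * v ≠ v * u →
      u * u = v * v ∧ v * u * v⁻¹ = u⁻¹ := by decide
  have hord : ∀ u : QuaternionGroup 2, u * u ≠ 1 → u ^ (2 * 2) = 1 ∧ u ^ 2 = u * u := by decide
  have hxx : e.symm x * e.symm x ≠ 1 := by
    intro h'
    rw [← map_mul, map_eq_one_iff _ e.symm.injective] at h'
    have h'' : (a (qq k) : Q k) * a (qq k) = 1 := congrArg Subtype.val h'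
    rw [a_mul_a, one_def, qq, ← Nat.cast_add] at h''
    have := Nat.le_of_dvd (by positivity) ((ZMod.natCast_eq_zero_iff _ _).1 (a.inj h''))
    have : 2 ^ (k + 2) = 2 * 2 ^ (k + 1) := pow_succ' 2 (k + 1)
    have := Nat.two_pow_pos (k + 1)
    omega
  have hyy : e.symm y * e.symm y ≠ 1 := by
    intro h'
    rw [← map_mul, map_eq_one_iff _ e.symm.injective] at h'
    have h'' : (xa i : Q k) * xa i = 1 := congrArg Subtype.val h'
    have := orderOf_xa (n := 2 ^ (k + 2)) i
    rw [← pow_two] at h''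
    have := Nat.le_of_dvd two_pos (orderOf_dvd_of_pow_eq_one h'')
    omega
  have hne : e.symm x * e.symm y ≠ e.symm y * e.symm x := by
    intro h'
    rw [← map_mul, ← map_mul] at h'
    have h'' : (a (qq k) : Q k) * xa i = xa i * a (qq k) :=
      congrArg Subtype.val (e.symm.injective h')
    rw [a_mul_xa, xa_mul_a] at h''
    have h3 : qq k + qq k = 0 := by linear_combination -(xa.inj h'')
    rw [qq, ← Nat.cast_add, ZMod.natCast_eq_zero_iff] at h3
    have := Nat.le_of_dvd (by positivity) h3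
    have : 2 ^ (k + 2) = 2 * 2 ^ (k + 1) := pow_succ' 2 (k + 1)
    have := Nat.two_pow_pos (k + 1)
    omega
  -- an automorphism sending one generator to the other
  have hmove : ∃ β : MulAut (QuaternionGroup 2), β (e.symm x) = e.symm y := by
    obtain ⟨u, hu⟩ : ∃ u, u = e.symm x := ⟨_, rfl⟩
    obtain ⟨v, hv⟩ : ∃ v, v = e.symm y := ⟨_, rfl⟩
    rw [← hu, ← hv]
    rw [← hu] at hxx
    rw [← hv] at hyy
    rw [← hu, ← hv] at hne
    have mk : ∀ u v : QuaternionGroup 2, u * u ≠ 1 → v * v ≠ 1 → u * v ≠ v * u →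
        ∃ β : MulAut (QuaternionGroup 2), β (.a 1) = u := by
      intro u v hu hv huv
      obtain ⟨h1, h2⟩ := hsw u v hu hv huv
      obtain ⟨hu4, hu2⟩ := hord u hu
      obtain ⟨f, hfa, -⟩ := quaternion_hom (G := QuaternionGroup 2) hu4
        (show v * v = u ^ 2 by rw [hu2, h1]) h2
      have ho : orderOf u = 2 * 2 := by
        haveI : Fact (Nat.Prime 2) := ⟨Nat.prime_two⟩
        refine (orderOf_eq_prime_pow (p := 2) (n := 1) ?_ (by simpa using hu4)).trans (by norm_num)
        rw [pow_one, pow_two]; exact hu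
      refine ⟨MulEquiv.ofBijective f
        (Finite.injective_iff_bijective.1 (quaternion_injective (by decide) ho f hfa)), ?_⟩
      show f (.a 1) = u
      rw [hfa, show (1 : ZMod (2 * 2)) = ((1 : ℕ) : ZMod (2 * 2)) from rfl, zexp_natCast hu4, pow_one]
    obtain ⟨β₁, h₁⟩ := mk u v hxx hyy hne
    obtain ⟨β₂, h₂⟩ := mk v u hyy hxx (Ne.symm hne)
    exact ⟨β₁.symm.trans β₂, by
      show β₂ (β₁.symm u) = v
      rw [← h₁, β₁.symm_apply_apply, h₂]⟩
  obtain ⟨β, hβ⟩ := hmove
  have hα : MulAut.congr e β ∈ F.autGroup (qlev i) := h ▸ Subgroup.mem_top _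
  have hmem := (mem_autGroup_iff le_top).1 hα
  have hle : Subgroup.zpowers (a (qq k) : Q k) ≤ qlev i := Subgroup.zpowers_le.2 x.2
  refine ⟨_, restrict_mem hmem hle, ?_⟩
  show ((MulAut.congr e β) x : Q k) = xa i
  rw [show MulAut.congr e β x = e (β (e.symm x)) from rfl, hβ, e.apply_symm_apply]

/-- The exchange of the two classes. -/
def shift (k : ℕ) : MulAut (Q k) where
  toFun
    | .a t => .a t
    | .xa t => .xa (t + 1)
  invFun
    | .a t => .a t
    | .xa t => .xa (t - 1)
  left_inv g := by rcases g with t | t <;> simp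
  right_inv g := by rcases g with t | t <;> simp
  map_mul' g g' := by
    rcases g with s | s <;> rcases g' with t | t <;>
      simp [a_mul_a, a_mul_xa, xa_mul_a, xa_mul_xa] <;> ring

/-- The exchange as an automorphism of the full subgroup. -/
def shiftTop (k : ℕ) : (⊤ : Subgroup (Q k)) ≃* (⊤ : Subgroup (Q k)) :=
  Subgroup.topEquiv.trans ((shift k : Q k ≃* Q k).trans Subgroup.topEquiv.symm)

theorem mapS_shift (i : Z k) : mapS (shiftTop k) (qlev i) = qlev (i + 1) := by
  ext g
  constructor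
  · intro hg
    obtain ⟨s, hx, hs⟩ := mem_mapS.1 hg
    obtain ⟨x, hxT⟩ := s
    change x ∈ qlev i at hx
    subst hs
    show shift k x ∈ qlev (i + 1)
    rcases x with t | t
    · exact hx
    · exact xa_mem.2 (by rw [add_sub_add_right_eq_sub]; exact xa_mem.1 hx)
  · intro hg
    rcases g with t | t
    · exact ⟨⟨a t, Subgroup.mem_top _⟩, (a_mem (i := i)).2 (a_mem.1 hg), rfl⟩
    · refine ⟨⟨xa (t - 1), Subgroup.mem_top _⟩, (xa_mem (i := i)).2 ?_, ?_⟩
      · rw [show t - 1 - i = t - (i + 1) by ring]; exact xa_mem.1 hg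
      · show (xa (t - 1 + 1) : Q k) = xa t
        rw [sub_add_cancel]

theorem act_two : Act F (1 + 1) ↔ Act F 0 := by
  rw [act_mod (1 + 1), act_mod 0]
  congr! 2
  have h : 2 < 2 * 2 ^ (k + 2) := by
    have := Nat.pow_le_pow_right two_pos (show 1 ≤ k + 2 by omega)
    omega
  rw [show (1 : Z k) + 1 = ((2 : ℕ) : Z k) by push_cast; norm_num, ZMod.val_natCast,
    Nat.mod_eq_of_lt h, ZMod.val_zero]

theorem act_shift {i : Z k} {F1 : FusionSystem (⊤ : Subgroup (Q k))}
    (h : SysHom F F1 (shiftTop k)) (hA : Act F i) : Act F1 (i + 1) := by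
  have := h.autGroup_top le_top hA
  rwa [mapS_shift] at this

/-- Up to exchanging the classes, a single active class is the class of `xa 0`. -/
theorem exists_normalised (hF : F.IsSaturated 2) (hA : Act F 1) (h0 : ¬ Act F 0) :
    ∃ (F1 : FusionSystem (⊤ : Subgroup (Q k))) (f : (⊤ : Subgroup (Q k)) ≃* (⊤ : Subgroup (Q k))),
      SysEquiv F F1 f ∧ F1.IsSaturated 2 ∧ Act F1 0 ∧ ¬ Act F1 1 := by
  have : Fact (Nat.Prime 2) := ⟨Nat.prime_two⟩
  have hE := transportSys_sysEquiv F (shiftTop k)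
  refine ⟨_, shiftTop k, hE, hE.saturated hF, act_two.1 (act_shift hE.1 hA), fun h => h0 ?_⟩
  have hm : mapS (shiftTop k).symm (qlev (1 : Z k)) = qlev 0 := by
    rw [show qlev (1 : Z k) = mapS (shiftTop k) (qlev 0) by rw [mapS_shift, zero_add],
      mapS_symm le_top]
  have := hE.2.autGroup_top le_top h
  rwa [hm] at this

end System

theorem not_eq_sum (h : (0 : ZMod 2) = 1 + ((1 + 1 : ℕ) : ZMod 2)) : False := by
  revert h; decide

theorem ofAdd_one_sq : (Multiplicative.ofAdd (1 : ZMod 2)) ^ 2 = 1 := by decide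

theorem ofAdd_one_ne : Multiplicative.ofAdd (1 : ZMod 2) ≠ 1 := by decide

/-- Every saturated system on a generalized quaternion group of order at least sixteen is realisable. -/
theorem isRealizable {Ω : Type*} [Group Ω] {S : Subgroup Ω} [Finite S] (hS : IsPGroup 2 S)
    {F : FusionSystem S} (hF : F.IsSaturated 2) (e : S ≃* Q k) : F.IsRealizable 2 := by
  classical
  have : Fact (Nat.Prime 2) := ⟨Nat.prime_two⟩
  have h1 := transportSys_sysEquiv F (e.trans Subgroup.topEquiv.symm)
  set F1 := transportSys F (e.trans Subgroup.topEquiv.symm)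
  have hF1 : F1.IsSaturated 2 := h1.saturated hF
  have hqn : ((2 ^ (k + 1) : ℕ) : Z k) = qq k := rfl
  by_cases hb : Act F1 0 ∧ Act F1 1
  · obtain ⟨G, _, _, f, hf, ⟨T, hT⟩, hc0, hc1⟩ := quaternion_twoClass k
    let e' : (T : Subgroup G) ≃* Q k :=
      (MulEquiv.subgroupCongr hT).trans (MonoidHom.ofInjective hf).symm
    refine isRealizable_of_model hF T e e' fun G1 G2 g1 g2 s1 s2 => ⟨MulEquiv.refl _, ?_⟩
    have hconj : ∀ x y, IsConj (f x) (f y) → G2.IsConjElt x y := fun x y h => by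
      obtain ⟨g, hg⟩ := _root_.isConj_iff.1 h
      exact model_isConjElt g2 g hg
    have a0 : Act G2 0 := by
      by_contra hn
      have h := chr_eq_of_not_act s2 (j := 0) (by omega) (by rwa [Nat.cast_zero])
        (hconj _ _ hc0)
      change par k ((2 ^ (k + 1) : ℕ) : Z k) = par k 0 + ((0 + 1 : ℕ) : ZMod 2) at h
      rw [hqn, par_qq, map_zero] at h
      simp at h
    have a1 : Act G2 1 := by
      by_contra hn
      have h := chr_eq_of_not_act s2 (j := 1) (by omega) (by rwa [Nat.cast_one])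
        (hconj _ _ hc1)
      change par k ((2 ^ (k + 1) : ℕ) : Z k) = par k 1 + ((1 + 1 : ℕ) : ZMod 2) at h
      rw [hqn, par_qq, map_one] at h
      exact not_eq_sum h
    obtain rfl : G1 = F1 := g1.unique h1
    obtain rfl : F1 = G2 := eq_of_act s1 s2 (iff_of_true hb.1 a0) (iff_of_true hb.2 a1)
    exact sysEquiv_rfl F1
  by_cases hsome : Act F1 0 ∨ Act F1 1
  · obtain ⟨G, _, _, f, hf, ⟨T, hT⟩, ⟨θ, hθ1, hθ0⟩, hc0⟩ := quaternion_oneClass (k + 2) (by omega)
    let e' : (T : Subgroup G) ≃* Q k :=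
      (MulEquiv.subgroupCongr hT).trans (MonoidHom.ofInjective hf).symm
    refine isRealizable_of_model hF T e e' fun G1 G2 g1 g2 s1 s2 => ?_
    obtain ⟨g, hg⟩ := _root_.isConj_iff.1 hc0
    have hc : G2.IsConjElt (a (((2 ^ (k + 2 - 1) : ℕ) : Z k))) (xa 0) := model_isConjElt g2 g hg
    have a0 : Act G2 0 := by
      by_contra hn
      have h := chr_eq_of_not_act s2 (j := 0) (by omega) (by rwa [Nat.cast_zero]) hc
      change par k ((2 ^ (k + 1) : ℕ) : Z k) = par k 0 + ((0 + 1 : ℕ) : ZMod 2) at h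
      rw [hqn, par_qq, map_zero] at h
      simp at h
    have a1 : ¬ Act G2 1 := by
      intro hn
      have h := model_hom_eq g2 θ (isConjElt_of_act hn)
      change θ (f (a (qq k))) = θ (f (xa 1)) at h
      have e1 : (xa 1 : Q k) = xa 0 * a 1 := by rw [xa_mul_a, zero_add]
      have e2 : (a (qq k) : Q k) = a 1 ^ 2 ^ (k + 1) := by rw [a_one_pow]; rfl
      rw [e1, e2, map_mul, map_mul, map_pow, map_pow, hθ1, hθ0, one_mul, pow_succ' 2 k, pow_mul,
        ofAdd_one_sq, one_pow] at h
      exact ofAdd_one_ne h.symm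
    obtain rfl : G1 = F1 := g1.unique h1
    by_cases h0 : Act F1 0
    · obtain rfl : F1 = G2 := eq_of_act s1 s2 (iff_of_true h0 a0)
        (iff_of_false (fun h => hb ⟨h0, h⟩) a1)
      exact ⟨MulEquiv.refl _, sysEquiv_rfl F1⟩
    · obtain ⟨F3, sh, hsh, hs3, b0, b1⟩ := exists_normalised s1 (hsome.resolve_left h0) h0
      obtain rfl : F3 = G2 := eq_of_act hs3 s2 (iff_of_true b0 a0) (iff_of_false b1 a1)
      exact ⟨sh, hsh⟩
  refine isRealizable_of_normal hS hF ?_
  have hn := h1.symm.isNormal (isNormal_of_no_essential isPGroup_top hF1 fun P hP => by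
    obtain ⟨i, -, hi⟩ := act_of_essential hF1 hP
    refine hsome ?_
    rw [act_mod] at hi
    rcases Nat.mod_two_eq_zero_or_one i.val with h | h <;> rw [h] at hi
    · exact Or.inl (by simpa using hi)
    · exact Or.inr (by simpa using hi))
  rwa [mapS_self] at hn

/-- In the quaternion group of order eight no proper subgroup can be essential. -/
theorem not_cand_eight {P : Subgroup (QuaternionGroup 2)} (hne : P ≠ ⊤)
    (hA : ¬ IsPGroup 2 (MulAut P)) : False := by
  have : Fact (Nat.Prime 2) := ⟨Nat.prime_two⟩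
  have hG : IsPGroup 2 (QuaternionGroup 2) :=
    IsPGroup.of_card (n := 3) (by rw [Nat.card_eq_fintype_card, QuaternionGroup.card]; norm_num)
  refine hA ?_
  obtain ⟨j, hj⟩ := IsPGroup.iff_card.1 (hG.to_subgroup P)
  have hdvd := P.card_subgroup_dvd_card
  rw [hj, Nat.card_eq_fintype_card, QuaternionGroup.card, show 4 * 2 = 2 ^ 3 by norm_num,
    Nat.pow_dvd_pow_iff_le_right one_lt_two] at hdvd
  have hj2 : j ≤ 2 := by
    by_contra h
    exact hne (P.eq_top_of_card_eq (by
      rw [hj, Nat.card_eq_fintype_card, QuaternionGroup.card, show j = 3 by omega]; norm_num))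
  have hsq : ∀ g : QuaternionGroup 2, g * g = 1 → g = a 0 ∨ g = a 2 := by decide
  by_cases h2 : ∃ g ∈ P, g * g ≠ 1
  · obtain ⟨g, hg, hgg⟩ := h2
    have h4 : ∀ g : QuaternionGroup 2, g ^ 2 ^ (1 + 1) = 1 := by decide
    have ho : orderOf (⟨g, hg⟩ : P) = 4 := by
      rw [Subgroup.orderOf_mk]
      exact orderOf_eq_prime_pow (n := 1) (by rwa [pow_one, pow_two]) (h4 g)
    have hle : 4 ≤ Nat.card P := ho ▸ orderOf_le_card
    have hle' : 2 ^ j ≤ 2 ^ 2 := Nat.pow_le_pow_right two_pos hj2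
    have hc : IsCyclic P := isCyclic_of_orderOf_eq_card ⟨g, hg⟩ (by rw [ho]; omega)
    exact isPGroup_mulAut_cyclic (hG.to_subgroup P)
  · push Not at h2
    have hle : P ≤ Subgroup.zpowers (a 2 : QuaternionGroup 2) := fun g hg => by
      rcases hsq g (h2 g hg) with rfl | rfl
      · exact one_mem _
      · exact Subgroup.mem_zpowers _
    have hc : IsCyclic P := Subgroup.isCyclic_of_le hle
    exact isPGroup_mulAut_cyclic (hG.to_subgroup P)

end CfsgLib.Fusion.TwoRank.Quat
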